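import Mathlib
import Cfsg.Agent.Lib.StdW.Mod1

/-! The structure `Fx` of a model, with its letters. -/

set_option autoImplicit false
set_option linter.unusedSectionVars false

namespace H60.ML

open Subgroup H69 H54 Function H92.SW

local notation "TL" => ([1, 2, 3, 4, 5, 6, 12] : List ℕ)
local notation "SL" => ([1, 2, 3, 4, 5, 6, 12, 80] : List ℕ)
local notation "UL" => ([1, 2, 3, 4] : List ℕ)
local notation "VL" => ([14, 15, 16, 17] : List ℕ)
local notation "CL" => ([1, 2, 3, 4, 7, 8, 9, 10] : List ℕ)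
local notation "NL" => ([1, 2, 3, 4, 7, 8, 9, 11] : List ℕ)
local notation "ML" => ([1, 2, 3, 4, 5, 6, 12, 13] : List ℕ)
local notation "GL" => ([18, 19, 20, 21] : List ℕ)
local notation "JL" => (List.range' 1 79 : List ℕ)

variable {G Ω : Type} [Group G] [Finite G] [MulAction G Ω] {pt : ℕ → Ω} {D : Dt} {J : Subgroup G}
  {lt : ℕ → G}

theorem mod_aux (m : Md D pt J lt) (ko : D.ko = true) (k2 : D.k2 = true) (k4 : D.k4 = true)
    (ke : allLt D.ea D.m = true) (k5 : D.k5 = true) :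
    lt 80 ∉ J ∧ Good D.c pt D.cT (cs lt TL) ∧ Good D.c pt D.cU (cs lt UL) ∧
    Good D.c pt D.cV (cs lt VL) ∧ cs lt NL ≤ J ⊓ 𝐍(cs lt UL) ∧
    (∀ R : Subgroup G, IsPGroup 2 R → ∃ j, R ^ᶜ j ≤ cs lt SL) ∧
    ∀ A : Subgroup G, A ≤ cs lt SL → (∀ a ∈ A, a * a = 1) → 16 ≤ Nat.card A →
      A = cs lt UL ∨ A = cs lt VL := by
  simp only [Dt.k2, Dt.k4, Dt.k5, band_eq_true, Nat.beq_eq] at k2 k4 k5
  obtain ⟨gT, gS, gU, -, gV, nU, -, nV, -, sS, -⟩ := k2
  obtain ⟨-, -, kS, -⟩ := k4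
  obtain ⟨-, -, -, -, -, nU', -⟩ := k5
  rw [allL_iff] at nU'
  replace gT := m.gd gT
  replace gS := m.gd gS
  replace gU := m.gd gU
  replace gV := m.gd gV
  replace nU := (gU.card m.x m.K).trans nU
  replace nV := (gV.card m.x m.K).trans nV
  replace sS := m.syl gS m.aX le_top sS
  simp only [Dt.ko, band_eq_true] at ko
  refine ⟨m.aJ.not_mem_of_notMemb m.x ko.1 (m.rep _), gT, gU, gV, le_inf m.le_J (cs_le fun l hl =>
    mem_normalizer_of_cj_le (m.nm (nU' l hl))), fun R hR => ?_, fun A h1 h2 h3 => ?_⟩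
  · obtain ⟨g, -, h⟩ := sS.exists_cj_le hR le_top
    exact ⟨g, h⟩
  · exact (m.ea gS kS ke h1 h2 h3).imp (fun e => eq_of_le_of_card_ge e (by rwa [nU]))
      fun e => eq_of_le_of_card_ge e (by rwa [nV])

theorem mod_fx (m : Md D pt J lt) {H : Type} [Group H] [IsSimpleGroup H] (φ : J ≃* H)
    (hA : Nat.card (Cfsg.Out H) * Nat.card J ≤ Nat.card G) (lJ : checkLow D.c D.J = true)
    (ho : J = ⊤ ∨ D.ko = true) (k2 : D.k2 = true) (k3 : D.k3 = true) (k4 : D.k4 = true)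
    (kP : D.all D.cP D.aP = true) (ke : allLt D.ea D.m = true) (k5 : D.k5 = true)
    (k6 : D.k6 = true) : ∃ F : H36.SW.Fx G, F.J = J ∧ F.U = cs lt UL ∧ F.V = cs lt VL ∧
      F.T = cs lt TL ∧ F.z = lt 1 ∧ F.q = lt 2 ∧ F.r = lt 3 ∧ F.w = lt 4 ∧ F.y1 = lt 5 ∧ F.y2 = lt 6 ∧
      F.h = lt 7 ∧ F.ρ = lt 8 ∧ F.s = lt 9 := by
  simp only [Dt.k2, Dt.k3, Dt.k4, band_eq_true, Nat.beq_eq] at k2 k3 k4
  obtain ⟨gT, gS, gU, gZ, gV, nU, nZ, nV, sT, sS, i7, eC, eJ⟩ := k2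
  obtain ⟨kU, kT, kS, kV, kH⟩ := k4
  replace gT := m.gd gT
  replace gS := m.gd gS
  replace gU := m.gd gU
  replace gV := m.gd gV
  replace nU := (gU.card m.x m.K).trans nU
  replace nV := (gV.card m.x m.K).trans nV
  replace nZ := ((m.gd gZ).card m.x m.K).trans nZ
  replace sS := m.syl gS m.aX le_top sS
  replace eC := (m.grp eC).symm.trans (m.ce m.aJ k3.1).2
  replace eJ := (m.grp eJ).symm.trans (m.aJ.base_change m.x (fun s hs => by
    obtain ⟨l, hl, rfl⟩ := List.mem_map.1 (eq_of_eqL _ _ eJ ▸ hs)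
    exact ⟨_, m.le_J (by decide) (mem_cs lt hl), m.rep l⟩) lJ le_rfl).2
  have o : J = ⊤ ∨ (lt 80 ∉ J ∧ J.index = 2) ∧ cs lt VL ^ᶜ lt 80 ≤ cs lt UL := ho.imp_right fun e => by
    simp only [Dt.ko, band_eq_true, Nat.beq_eq] at e
    exact ⟨⟨m.aJ.not_mem_of_notMemb m.x e.1 (m.rep _),
      by rw [← relIndex_top_right, m.rel m.aJ m.aX le_top]; exact e.2.2.1⟩, m.nm e.2.1⟩
  have nJ : J.Normal := o.elim (fun e => e ▸ inferInstance) fun e => normal_of_index_eq_two e.1.2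
  have mC : ∀ g, g ∈ cs lt CL ↔ g ∈ J ∧ g * lt 1 = lt 1 * g := fun g => by
    rw [eC, H92.SW.mem_cent, List.forall_mem_singleton]
  simp only [Dt.k5, Dt.k6, Dt.ex, band_eq_true, bor_eq_true, bnot_eq_true, allL_iff, anyL_iff,
    m.ev.ew, m.ev.cm, m.ev.cj, lw_append, lw_rep, lw_cons, lw_nil, mul_one] at k5 k6
  obtain ⟨i2, cz, o7, n1, f2, nU', nV', nQ, yN, f1, gS', w8, cj, rot, rS, sh⟩ := k5
  obtain ⟨r1, r2, r3, r4, r5, r6, r7, r8, r9, r10, r11, r12, r13, r14, r15⟩ := k6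
  have iv : ∀ l ∈ SL ++ 9 :: GL, (lt l)⁻¹ = lt l := fun l hl => inv_eq_of_mul_eq_one_right (i2 l hl)
  have NU : cs lt NL ≤ J ⊓ 𝐍(cs lt UL) := le_inf m.le_J (cs_le fun l hl =>
    mem_normalizer_of_cj_le (m.nm (nU' l hl)))
  have NV : cs lt ML ≤ J ⊓ 𝐍(cs lt VL) := le_inf m.le_J (cs_le fun l hl =>
    mem_normalizer_of_cj_le (m.nm (nV' l hl)))
  have aU := fun u hu => m.all gU kU (g := u) hu
  have aT := fun u hu => m.all gT kT (g := u) hu
  have aV := fun u hu => m.all gV kV (g := u) hu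
  have aP := fun u (h1 : u * lt 1 = lt 1 * u) (h2 : u * lt 2 = lt 2 * u) =>
    m.all (m.ce m.aX k3.2.1).1 kP (g := u) (H92.SW.mem_cent.2 ⟨trivial, by simp [h1, h2]⟩)
  replace aU : ∀ u ∈ cs lt UL, u * u = 1 ∧ (u * lt 8 = lt 8 * u → u * lt 9 = lt 9 * u → u = 1 ∨ u = lt 1) ∧
      (u = 1 ∨ (∃ n ∈ cs lt NL, n * lt 1 * n⁻¹ = u) ∧ (u = lt 1 ∨
        (∃ n ∈ cs lt NL, n * lt 2 * n⁻¹ = u ∧ n * lt 1 = lt 1 * n) ∧ (u = lt 2 ∨ u = lt 1 * lt 2 ∨
        ∃ n ∈ cs lt NL, n * lt 3 * n⁻¹ = u ∧ n * lt 1 = lt 1 * n ∧ n * lt 2 = lt 2 * n))) :=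
    fun u hu => by
    obtain ⟨cl, e, h⟩ := aU u hu
    simp only [Dt.aU, Dt.ex, band_eq_true, bor_eq_true, bimp_eq_true, anyL_iff, h.ew, h.cm, h.cj,
      lw_cons, lw_nil, mul_one, update_self, ne_eq, OfNat.ofNat_ne_zero, one_ne_zero,
      not_false_eq_true, update_of_ne] at e
    exact ⟨e.1, e.2.1, e.2.2.imp_right (And.imp (fun ⟨_, _, a, b⟩ => ⟨_, mem_upd b, a⟩)
      (Or.imp_right (And.imp (fun ⟨_, _, a, b⟩ => ⟨_, mem_upd b, a⟩)
        (Or.imp_right (Or.imp_right fun ⟨_, _, a, b⟩ => ⟨_, mem_upd b, a⟩)))))⟩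
  replace aT : ∀ u ∈ cs lt TL, (u ^ 4 = 1 ∨ u ^ 4 = lt 1) ∧ (u * u = 1 → u = 1 ∨ u = lt 1 ∨
      ∃ n ∈ J, n * lt 1 = lt 1 * n ∧ (n * u * n⁻¹ = lt 2 ∨ n * u * n⁻¹ = lt 5)) := fun u hu => by
    obtain ⟨cl, e, h⟩ := aT u hu
    simp only [Dt.aT, Dt.ex, band_eq_true, bor_eq_true, bimp_eq_true, anyL_iff, h.ew, h.cj, lw_rep,
      lw_cons, lw_nil, mul_one, update_self, ne_eq, OfNat.ofNat_ne_zero, one_ne_zero,
      not_false_eq_true, update_of_ne] at e
    exact ⟨e.1, fun k => (e.2 k).imp_right (Or.imp_right fun ⟨_, _, a, b⟩ =>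
      ⟨_, ((mC _).1 (mem_upd b)).1, ((mC _).1 (mem_upd b)).2, a⟩)⟩
  replace aP : ∀ u, u * lt 1 = lt 1 * u → u * lt 2 = lt 2 * u → (u * lt 3 = lt 3 * u →
      u ∈ cs lt UL ∧ (u * lt 5 = lt 5 * u → u * lt 6 = lt 6 * u → u = 1 ∨ u = lt 1)) ∧
      ∀ a ∈ [2, 5], (∀ c ∈ J, c * lt 1 = lt 1 * c → c * lt a = lt a * c → u * c = c * u) →
        u = 1 ∨ u = lt 1 ∨ u = lt a ∨ u = lt 1 * lt a := fun u h1 h2 => by
    obtain ⟨cl, e, h⟩ := aP u h1 h2
    simp only [Dt.aP, Dt.ex, band_eq_true, bor_eq_true, bimp_eq_true, bnot_eq_true, anyL_iff,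
      allL_iff, h.ew, h.cm, lw_cons, lw_nil, mul_one, update_self, ne_eq, OfNat.ofNat_ne_zero,
      one_ne_zero, not_false_eq_true, update_of_ne] at e
    refine ⟨fun k => (e.1 k).imp_left fun ⟨_, _, a, b⟩ => a ▸ mem_upd b, fun a ha k => ?_⟩
    have := e.2 a ha
    rw [update_of_ne (by rintro rfl; simp at ha), ← or_assoc, ← or_assoc, ← or_assoc] at this
    simpa only [or_assoc] using this.resolve_right fun ⟨_, _, a, b⟩ =>
      a.1 (k _ ((mC _).1 (mem_upd b)).1 ((mC _).1 (mem_upd b)).2 a.2)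
  have cQ : ∀ g, g * lt 2 = lt 2 * g → g * lt 3 = lt 3 * g → g * lt 5 = lt 5 * g →
      g * lt 6 = lt 6 * g → g = 1 ∨ g = lt 1 := fun g h2 h3 h5 h6 => ((aP g (by
    rw [← inv_mul_eq_iff_eq_mul.2 r8]
    exact (Commute.inv_right h3).mul_right (Commute.mul_right h5 (Commute.mul_right h3 h5)))
      h2).1 h3).2 h5 h6
  have j := m.mem
  have zq : lt 2 * lt 1 = lt 1 * lt 2 := cz 2 (by decide)
  have mJ : ∀ {u}, Dt.sub u JL = true → lw lt u ∈ J := fun e => m.le_J (by decide) (mem_sub e)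
  refine ⟨{
    J := J, U := cs lt UL, V := cs lt VL, Q := cs lt [2, 3, 5, 6], T := cs lt TL
    S := {g | g ∈ List.map lt GL}, z := lt 1, q := lt 2, r := lt 3, w := lt 4, y1 := lt 5
    y2 := lt 6, h := lt 7, ρ := lt 8, s := lt 9, d := lt 10, nJ := nJ, simple := φ.isSimpleGroup
    sq := fun a ha b hb => (mul_mem_iff_of_index_two
      (o.resolve_left fun e => ha (e ▸ mem_top a)).1.2).2 (iff_of_false ha hb)
    aut := fun ψ => ?aut
    syl := m.syl gT m.aJ m.le_J sT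
    zT := mem_cs lt (by decide), qT := mem_cs lt (by decide), rT := mem_cs lt (by decide)
    wT := mem_cs lt (by decide), y1T := mem_cs lt (by decide), y2T := mem_cs lt (by decide)
    hJ := j _ (by decide) (by decide), ρJ := j _ (by decide) (by decide)
    sJ := j _ (by decide) (by decide), dJ := j _ (by decide) (by decide)
    cT := fun a ha => mem_centralizer_singleton_iff.1 (cs_le (fun l hl =>
      mem_centralizer_singleton_iff.2 (cz l (List.mem_append_left _ hl))) ha)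
    genT := cs_le fun l hl => Subgroup.subset_closure ⟨mem_cs lt hl, i2 l (by revert l; decide)⟩
    p4 := fun a ha => (aT a ha).1
    w8 := let ⟨_, _, a, b⟩ := w8; ⟨_, mem_sub b, by rw [← a]; simp only [pow_succ, pow_zero, one_mul]⟩
    allT := fun a ha => (aT a ha).2
    hU := cs_eq (by ext; simp), hQ := cs_eq (by ext; simp), U2 := fun u hu => (aU u hu).1, cU := nU
    cU0 := by rw [← nZ, cs_eq]; ext; simp
    z1 := n1 _ (by decide), q1 := n1 _ (by decide), qz := r12, r1 := n1 _ (by decide), rz := r13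
    rq := r14, rzq := r15
    tr1 := fun u hu h1 => let ⟨n, a, b⟩ := ((aU u hu).2.2.resolve_left h1).1
      ⟨n, (NU a).1, (NU a).2, b⟩
    tr2 := fun u hu h1 h2 => let ⟨n, a, b⟩ := (((aU u hu).2.2.resolve_left h1).2.resolve_left h2).1
      ⟨n, (NU a).1, (NU a).2, b.2, b.1⟩
    tr3 := fun u hu h1 h2 h3 h4 => let ⟨n, a, b⟩ := ((((aU u hu).2.2.resolve_left h1).2.resolve_left
      h2).2.resolve_left h3).resolve_left h4; ⟨n, (NU a).1, (NU a).2, b.2.1, b.2.2, b.1⟩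
    cpqr := fun g h1 h2 h3 => ((aP g h1 h2).1 h3).1
    ea := fun A h1 h2 => ?ea
    VJ := m.le_J, cV := nV
    mvV := fun v hv h1 => ?mv
    VU := o.imp_right fun e => ⟨_, eq_of_le_of_card_ge e.2 (by rw [card_cj, nU, nV])⟩
    outex := o.imp_right fun e => ⟨_, e.1.1, i2 _ (by decide)⟩
    out := fun x hx => m.out nJ sS (o.resolve_left fun e => hx (e ▸ mem_top x)).1 gS kS
      (ho.resolve_left fun e => hx (e ▸ mem_top x)) x hx
    c7 := m.c7 (m.ce m.aX k3.2.2).1 i7 kH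
    f1 := fun c h1 h2 => cs_le (fun l hl => let ⟨_, _, a, b⟩ := f1 l hl; a ▸ cs_le (fun l hl => by
      exact Subgroup.subset_closure ⟨m.le_J (by decide) (mem_cs lt hl),
        cz l (List.mem_append_right _ hl), o7 l (List.mem_cons_of_mem _ hl)⟩) (mem_sub b)) ((mC c).2 ⟨h1, h2⟩)
    f2 := eJ.ge.trans (cs_le fun l hl => let ⟨_, _, a, b⟩ := gS' l hl; a ▸ cs_le (fun l hl => by
      exact Subgroup.subset_closure ⟨m.le_J (by decide) (mem_cs lt hl), by
        rw [iv l (by revert l; decide), mul_assoc (lt l) (lt 1)]; exact f2 l hl⟩) (mem_sub b))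
    hN := (NU (mem_cs lt (by decide))).2, ρN := (NU (mem_cs lt (by decide))).2
    sN := (NU (mem_cs lt (by decide))).2, hz := ((mC _).1 (mem_cs lt (by decide))).2
    ρz := ((mC _).1 (mem_cs lt (by decide))).2, sz := ((mC _).1 (mem_cs lt (by decide))).2
    dz := ((mC _).1 (mem_cs lt (by decide))).2, h1 := n1 _ (by decide), h7 := o7 _ (by decide)
    ρ3 := r1, s2 := i2 _ (by decide), d3 := r2, ρh := r3
    sρ := by rw [mul_inv_eq_iff_eq_mul, eq_inv_mul_iff_mul_eq, r4]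
    cρs := fun u hu => (aU u hu).2.1
    sh := let ⟨i, _, a⟩ := sh; ⟨i, by rw [pow_three, a]⟩
    dN := mem_normalizer_of_cj_le (m.nm nQ)
    y1N := let ⟨_, _, a, b⟩ := yN 5 (by decide); a ▸ (cs_eq (by ext; simp)).le (mem_sub b)
    y2N := let ⟨_, _, a, b⟩ := yN 6 (by decide); a ▸ (cs_eq (by ext; simp)).le (mem_sub b)
    genC := fun c h1 h2 => (cs_eq (by ext; simp)).le ((mC c).2 ⟨h1, h2⟩)
    cQ := cQ
    cF1 := fun g h => (aP g (h _ (j _ (by decide) (by decide)) rfl zq.symm)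
      (h _ (j _ (by decide) (by decide)) zq rfl)).2 2 (by decide) h
    cF2 := fun g h => (aP g (h _ (j _ (by decide) (by decide)) rfl (cz 5 (by decide)).symm)
      (h _ (j _ (by decide) (by decide)) zq r6)).2 5 (by decide) h
    rot2 := let ⟨_, _, a, b⟩ := rot; ⟨_, mJ b, a⟩
    y11 := i2 _ (by decide), y22 := i2 _ (by decide), y12 := r5, qy1 := r6, ry2 := r7
    ry1 := (mul_assoc ..).trans r8, qy2 := (mul_assoc ..).trans r9, wy1 := (mul_assoc ..).trans r10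
    wy2 := (mul_assoc ..).trans r11
    cj1 := let ⟨_, _, a, b⟩ := cj [5] (by decide); ⟨_, mJ b, a.1, a.2.trans (lw_one _)⟩
    cj2 := let ⟨_, _, a, b⟩ := cj [6] (by decide); ⟨_, mJ b, a.1, a.2.trans (lw_one _)⟩
    cj3 := let ⟨_, _, a, b⟩ := cj [5, 6] (by decide); ⟨_, mJ b, a.1, by rw [a.2, lw_cons, lw_one]⟩
    genS := eJ.ge.trans (cs_le fun l hl => let ⟨_, _, a, b⟩ := gS' l hl; a ▸ mem_sub b)
    invS := fun a ha => let ⟨l, hl, e⟩ := List.mem_map.1 ha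
      e ▸ ⟨m.le_J (by decide) (mem_cs lt hl), i2 l (by clear e; revert l; decide),
        n1 l (by clear e; revert l; decide)⟩
    relS := fun a ha b hb => let ⟨l, hl, e⟩ := List.mem_map.1 ha; let ⟨k, hk, e'⟩ := List.mem_map.1 hb
      e ▸ e' ▸ (rS l hl k hk).imp_right fun ⟨_, _, a, b⟩ => ⟨_, mJ b, a⟩ },
    rfl, rfl, rfl, rfl, rfl, rfl, rfl, rfl, rfl, rfl, rfl, rfl, rfl⟩
  case ea =>
    obtain ⟨g, hg, h⟩ := m.cj_le sS (o.imp_right And.left)
      (R := A) fun a => ⟨1, Subtype.ext (by simpa [pow_two] using h1 a a.2)⟩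
    refine ⟨g, hg, (m.ea gS kS ke h (fun a ha => ?_) (by rwa [card_cj])).imp
      (fun e => eq_of_le_of_card_ge e (by rwa [card_cj, nU]))
      fun e => eq_of_le_of_card_ge e (by rwa [card_cj, nV])⟩
    obtain ⟨a, ha', rfl⟩ := mem_cj'.1 ha
    rw [conj_mul, h1 a ha', mul_one, mul_inv_cancel]
  case mv =>
    obtain ⟨cl, e, h⟩ := aV v hv
    simp only [Dt.aV, Dt.ex, band_eq_true, bor_eq_true, bnot_eq_true, anyL_iff, h.ew, h.cm,
      lw_one, lw_nil, update_self] at e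
    obtain ⟨_, _, a, b⟩ := e.resolve_left h1
    exact ⟨_, (NV (mem_upd b)).1, (NV (mem_upd b)).2, a⟩
  case aut =>
    have hi : Injective (MulAut.conjNormal : G →* MulAut J) := (injective_iff_map_eq_one _).2
      fun g hg => by
      have c : ∀ x ∈ J, g * x = x * g := fun x hx => mul_inv_eq_iff_eq_mul.1
        (congrArg Subtype.val (DFunLike.congr_fun hg ⟨x, hx⟩) :)
      refine (cQ g (c _ (j _ (by decide) (by decide))) (c _ (j _ (by decide) (by decide)))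
        (c _ (j _ (by decide) (by decide))) (c _ (j _ (by decide) (by decide)))).resolve_right ?_
      rintro rfl
      obtain ⟨n, a, b⟩ := ((aU _ (mem_cs lt (l := 2) (by decide))).2.2.resolve_left
        (n1 _ (by decide))).1
      exact r12 (by rw [← b, ← c n (NU a).1, mul_inv_cancel_right])
    have : Finite H := .of_equiv _ φ.toEquiv
    obtain ⟨x, hx⟩ := ((Nat.bijective_iff_injective_and_card _).2 ⟨hi, le_antisymm
      (Nat.card_le_card_of_injective _ hi) (le_trans (by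
        rw [Nat.card_congr (MulAut.congr φ).toEquiv, Nat.card_congr φ.toEquiv,
          card_eq_card_quotient_mul_card_subgroup (Cfsg.Inn H)]
        exact Nat.mul_le_mul_left _ (Nat.card_le_card_of_surjective _
          (MonoidHom.rangeRestrict_surjective _))) hA)⟩).2 ψ
    exact ⟨x, fun k => by rw [← hx]; rfl⟩

end H60.ML
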